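import Mathlib
import Groth.Agent.Lib.Helper14.EtaleAtPrime
import Groth.Agent.Lib.Helper2.FlatDescent
import Groth.Agent.Lib.Helper29.EtaleAtCompletion

/-!
# Local descent of étaleness (helper29)

`isEtaleAt_of_isEtaleAt_of_isEtaleAt`: for `R → B → S` (finitely presented) and a prime `𝔓` of `S`
over `Q ⊆ B`: if `S` is étale over `R` at `𝔓` and étale over `B` at `𝔓`, then `B` is étale over `R`
at `Q`.
-/

set_option autoImplicit false
set_option linter.style.haveILetI false
universe u

namespace Groth.Agent.Lib.Helper29.InertiaGen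

open TensorProduct

theorem isEtaleAt_of_isEtaleAt_of_isEtaleAt (R B S : Type u) [CommRing R] [CommRing B] [CommRing S]
    [Algebra R B] [Algebra B S] [Algebra R S] [IsScalarTower R B S]
    [Algebra.FinitePresentation R B] [Algebra.FinitePresentation R S]
    [Algebra.FinitePresentation B S]
    (Q : Ideal B) [Q.IsPrime] (𝔓 : Ideal S) [𝔓.IsPrime] [𝔓.LiesOver Q]
    [Algebra.IsEtaleAt R 𝔓] [Algebra.IsEtaleAt B 𝔓] : Algebra.IsEtaleAt R Q := by
  let BQ := Localization.AtPrime Q
  let L := Localization.AtPrime 𝔓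
  letI : Algebra BQ L := Localization.AtPrime.algebraOfLiesOver Q 𝔓
  haveI : IsScalarTower B BQ L := inferInstance
  haveI : IsScalarTower R BQ L := inferInstance
  have hflatB : Module.Flat B L := Groth.Agent.Lib.Helper29.flat_localization_atPrime_of_isEtaleAt B S 𝔓
  have hflatR : Module.Flat R L := Groth.Agent.Lib.Helper29.flat_localization_atPrime_of_isEtaleAt R S 𝔓
  haveI hflatBQ : Module.Flat BQ L := (Module.flat_iff_of_isLocalization BQ Q.primeCompl L).mpr hflatB
  haveI : IsLocalHom (algebraMap BQ L) := by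
    change IsLocalHom (Localization.localRingHom Q 𝔓 (algebraMap B S) Ideal.LiesOver.over)
    infer_instance
  haveI hff : Module.FaithfullyFlat BQ L := Module.FaithfullyFlat.of_flat_of_isLocalHom
  have hflatRBQ : Module.Flat R BQ := Groth.Agent.Lib.Helper2.flat_of_flat_of_faithfullyFlat R BQ L
  haveI hfeB : Algebra.FormallyEtale B L := ‹Algebra.IsEtaleAt B 𝔓›
  haveI hfeR : Algebra.FormallyEtale R L := ‹Algebra.IsEtaleAt R 𝔓›
  haveI hfeBQ : Algebra.FormallyEtale BQ L := Algebra.FormallyEtale.localization_base Q.primeCompl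
  haveI hunr : Algebra.FormallyUnramified R BQ := by
    constructor
    have e1 := KaehlerDifferential.tensorKaehlerEquivOfFormallyEtale R BQ L
    haveI : Subsingleton (L ⊗[BQ] Ω[BQ⁄R]) := e1.toEquiv.subsingleton
    exact (Module.FaithfullyFlat.subsingleton_tensorProduct_iff_right BQ L).mp inferInstance
  haveI : Algebra.IsUnramifiedAt R Q := hunr
  exact Groth.Agent.Lib.Helper14.isEtaleAt_of_isUnramifiedAt_of_flat_localization Q hflatRBQ

/-- transport of `IsEtaleAt` along an equality of subrings -/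
theorem isEtaleAt_subring_congr {A B₀ : Type*} [CommRing A] [CommRing B₀] (S₁ S₂ : Subring A)
    (h : S₁ = S₂) (i₁ : Algebra B₀ S₁) (i₂ : Algebra B₀ S₂)
    (hi : ∀ b, ((@algebraMap B₀ S₁ _ _ i₁ b : S₁) : A) = ((@algebraMap B₀ S₂ _ _ i₂ b : S₂) : A))
    (P : Ideal A) [P.IsPrime]
    (het : @Algebra.IsEtaleAt B₀ S₂ _ _ i₂ (P.comap S₂.subtype) (Ideal.comap_isPrime _ _)) :
    @Algebra.IsEtaleAt B₀ S₁ _ _ i₁ (P.comap S₁.subtype) (Ideal.comap_isPrime _ _) := by
  subst h
  have : i₁ = i₂ := Algebra.algebra_ext _ _ (fun b => Subtype.ext (hi b))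
  subst this
  exact het

end Groth.Agent.Lib.Helper29.InertiaGen
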