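import Mathlib
import Groth.Prelude.Def_Pi1

/-!
# Invariants of the inertia group are étale over the invariants (SGA 1, V, 2.2)

For a finite group `G` acting on a commutative ring `R`, a subgroup `H` and `y ∈ R^H`, the
localisation of `R^H` at `∏_{τ ∈ G/H, τ ≠ 1} (y - τ y)` is standard étale over `R^G`
(`etale_away_of_fixedPoints`; Lagrange interpolation).  For a prime `q` with inertia group `I` a
suitable `y ∈ R^I` exists (`exists_etale_away_inertia`): a decomposition element
(`exists_dec_element`) times a primitive element (`exists_primitive_inertia_invariant`, through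
B. H. Neumann's coset covering lemma, `exists_forall_ne_of_ringHom`).
-/

set_option linter.style.haveILetI false
set_option linter.unusedSectionVars false
set_option autoImplicit false
universe u v w
open Polynomial Pointwise

namespace Groth.Agent.Lib.Helper29.InertiaGen

section Lagrange

variable {R : Type u} [CommRing R] {ι : Type v} [Fintype ι] [DecidableEq ι]

/-- The product `∏ (X - r c)`. -/
noncomputable def prodX (r : ι → R) : R[X] := ∏ c, (X - C (r c))

/-- The (unnormalised) Lagrange interpolation polynomial `∑ ζ c * ∏_{d ≠ c} (X - r d)`. -/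
noncomputable def lag (r ζ : ι → R) : R[X] :=
  ∑ c, C (ζ c) * ∏ d ∈ Finset.univ.erase c, (X - C (r d))

lemma prodX_monic (r : ι → R) : (prodX r).Monic :=
  monic_prod_of_monic _ _ fun _ _ => monic_X_sub_C _

lemma eval_prodX (r : ι → R) (c : ι) : (prodX r).eval (r c) = 0 := by
  rw [prodX, eval_prod]
  exact Finset.prod_eq_zero (Finset.mem_univ c) (by simp)

lemma eval_lag (r ζ : ι → R) (c₀ : ι) :
    (lag r ζ).eval (r c₀) = ζ c₀ * ∏ d ∈ Finset.univ.erase c₀, (r c₀ - r d) := by
  rw [lag, eval_finsetSum, Finset.sum_eq_single c₀]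
  · simp [eval_prod]
  · intro c _ hc
    rw [eval_mul, eval_prod,
      Finset.prod_eq_zero (i := c₀) (Finset.mem_erase.mpr ⟨hc.symm, Finset.mem_univ _⟩) (by simp),
      mul_zero]
  · intro h; exact absurd (Finset.mem_univ _) h

lemma derivative_prodX (r : ι → R) : derivative (prodX r) = lag r (fun _ => 1) := by
  rw [prodX, derivative_prod_finset, lag]
  refine Finset.sum_congr rfl fun c _ => ?_
  simp

lemma prodX_dvd_lag_one_mul (r : ι → R) (F : R[X]) (hF : ∀ c, F.eval (r c) = 0) :
    prodX r ∣ lag r (fun _ => 1) * F := by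
  rw [lag, Finset.sum_mul]
  refine Finset.dvd_sum fun c _ => ?_
  obtain ⟨F', hF'⟩ := (dvd_iff_isRoot (p := F) (a := r c)).mpr (hF c)
  rw [hF', prodX, ← Finset.mul_prod_erase Finset.univ _ (Finset.mem_univ c)]
  exact ⟨F', by simp only [map_one, one_mul]; ring⟩

end Lagrange

section Action

variable {G : Type w} [Group G] {R : Type u} [CommRing R] [MulSemiringAction G R]
  {ι : Type v} [Fintype ι] [DecidableEq ι] [MulAction G ι]

lemma smul_prodX (r : ι → R) (hr : ∀ (σ : G) c, r (σ • c) = σ • r c) (σ : G) :
    σ • prodX r = prodX r := by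
  rw [prodX, Finset.smul_prod']
  refine Fintype.prod_bijective _ (MulAction.bijective σ) _ _ fun c => ?_
  rw [smul_sub, smul_X, smul_C, hr]

lemma smul_lag (r ζ : ι → R) (hr : ∀ (σ : G) c, r (σ • c) = σ • r c)
    (hζ : ∀ (σ : G) c, ζ (σ • c) = σ • ζ c) (σ : G) :
    σ • lag r ζ = lag r ζ := by
  rw [lag, Finset.smul_sum]
  refine Fintype.sum_bijective _ (MulAction.bijective σ) _ _ fun c => ?_
  rw [smul_mul', smul_C, hζ, Finset.smul_prod']
  congr 1
  refine Finset.prod_equiv (MulAction.toPerm σ) (by simp) fun d _ => ?_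
  rw [smul_sub, smul_X, smul_C, MulAction.toPerm_apply, hr]

end Action


section Ev

variable {G : Type w} [Group G] {R : Type u} [CommRing R] [MulSemiringAction G R]
  (H : Subgroup G)

/-- For an `H`-invariant element `z`, the function `G ⧸ H → R`, `σH ↦ σ • z`. -/
def ev (z : R) (hz : ∀ h ∈ H, h • z = z) : G ⧸ H → R :=
  fun c => Quotient.liftOn' c (fun σ => σ • z) (by
    intro a b hab
    rw [QuotientGroup.leftRel_apply] at hab
    have := hz _ hab
    show a • z = b • z
    calc a • z = a • ((a⁻¹ * b) • z) := by rw [this]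
      _ = b • z := by rw [smul_smul, mul_inv_cancel_left])

lemma ev_mk (z : R) (hz : ∀ h ∈ H, h • z = z) (σ : G) :
    ev H z hz (QuotientGroup.mk σ) = σ • z := rfl

lemma ev_smul (z : R) (hz : ∀ h ∈ H, h • z = z) (σ : G) (c : G ⧸ H) :
    ev H z hz (σ • c) = σ • ev H z hz c := by
  induction c using QuotientGroup.induction_on with
  | H τ => rw [MulAction.Quotient.smul_mk, ev_mk, ev_mk, smul_eq_mul, mul_smul]

lemma ev_one (z : R) (hz : ∀ h ∈ H, h • z = z) :
    ev H z hz (QuotientGroup.mk 1) = z := by
  rw [ev_mk, one_smul]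

end Ev


section Desc

variable {G : Type w} {R : Type u} [Group G] [CommRing R] [MulSemiringAction G R]

/-- universe-general version of `Pi1.fixedPointsSubgroupAlgebra` -/
instance fixedPointsSubgroupAlgebra' (G : Type w) (R : Type u) [Group G] [CommRing R]
    [MulSemiringAction G R] (H : Subgroup G) :
    Algebra (FixedPoints.subring R G) (FixedPoints.subring R H) :=
  (Subring.inclusion (show FixedPoints.subring R G ≤ FixedPoints.subring R H from
    fun _ hx h => hx (h : G))).toAlgebra

/-- Descend a `G`-invariant polynomial to the ring of invariants. -/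
noncomputable def desc (F : R[X]) (hF : ∀ σ : G, σ • F = F) : (FixedPoints.subring R G)[X] :=
  F.toSubring (FixedPoints.subring R G) (by
    intro c hc σ
    obtain ⟨n, _, rfl⟩ := Polynomial.mem_coeffs_iff.1 hc
    rw [← Polynomial.coeff_smul, hF])

lemma map_desc (F : R[X]) (hF : ∀ σ : G, σ • F = F) :
    (desc F hF).map (FixedPoints.subring R G).subtype = F :=
  Polynomial.map_toSubring _ _ _

lemma desc_monic (F : R[X]) (hF : ∀ σ : G, σ • F = F) (h : F.Monic) : (desc F hF).Monic := by
  exact (Polynomial.monic_toSubring _ _ _).2 h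

instance isScalarTower_fixedPoints (H : Subgroup G) :
    IsScalarTower (FixedPoints.subring R G) (FixedPoints.subring R H) R :=
  IsScalarTower.of_algebraMap_eq fun _ => rfl

lemma coe_aeval_desc (H : Subgroup G) (F : R[X]) (hF : ∀ σ : G, σ • F = F)
    (y : FixedPoints.subring R H) :
    ((aeval y (desc F hF) : FixedPoints.subring R H) : R) = F.eval (y : R) := by
  have h1 := Polynomial.aeval_algebraMap_apply (A := FixedPoints.subring R H) (B := R) y
    (desc F hF)
  have h2 : algebraMap (FixedPoints.subring R H) R (aeval y (desc F hF)) =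
      ((aeval y (desc F hF) : FixedPoints.subring R H) : R) := rfl
  rw [← h2, ← h1, Polynomial.aeval_def, Polynomial.eval₂_eq_eval_map]
  have h3 : algebraMap (FixedPoints.subring R G) R = (FixedPoints.subring R G).subtype := rfl
  rw [h3, map_desc]
  rfl

lemma derivative_desc (F : R[X]) (hF : ∀ σ : G, σ • F = F) (hF' : ∀ σ : G, σ • derivative F = derivative F) :
    derivative (desc F hF) = desc (derivative F) hF' := by
  apply Polynomial.map_injective _ (Subring.subtype_injective _)
  rw [map_desc, ← Polynomial.derivative_map, map_desc]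

end Desc


section Etale

variable {G : Type w} {R : Type u} [Group G] [CommRing R] [MulSemiringAction G R]

lemma smul_map_subtype (F : (FixedPoints.subring R G)[X]) (σ : G) :
    σ • F.map (FixedPoints.subring R G).subtype = F.map (FixedPoints.subring R G).subtype := by
  ext n
  rw [Polynomial.coeff_smul, Polynomial.coeff_map]
  exact (F.coeff n).2 σ

/-- Let `H ≤ G` act on `R` and `y ∈ R^H`. Then `R^H`, localised at
`g = ∏_{τ ∈ G/H, τ ≠ 1} (y - τ y)`, is (standard) étale over `R^G`. -/
theorem etale_away_of_fixedPoints [Finite G] (H : Subgroup G) (y : FixedPoints.subring R H) :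
    ∃ g : FixedPoints.subring R H,
      (∀ q : Ideal R, q.IsPrime → (∀ τ : G, τ ∉ H → τ • (y : R) - y ∉ q) → (g : R) ∉ q) ∧
      Algebra.Etale (FixedPoints.subring R G) (Localization.Away g) := by
  classical
  haveI : Fintype (G ⧸ H) := Fintype.ofFinite _
  have hy : ∀ h ∈ H, h • (y : R) = y := fun h hh => y.2 ⟨h, hh⟩
  have hr : ∀ (σ : G) c, ev H (y : R) hy (σ • c) = σ • ev H (y : R) hy c := ev_smul H _ hy
  have hrc₀ : ev H (y : R) hy (QuotientGroup.mk 1) = y := ev_one H _ hy
  have hPinv : ∀ σ : G, σ • prodX (ev H (y : R) hy) = prodX (ev H (y : R) hy) :=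
    smul_prodX _ hr
  have hLinv : ∀ (z : R) (hz : ∀ h ∈ H, h • z = z) (σ : G),
      σ • lag (ev H (y : R) hy) (ev H z hz) = lag (ev H (y : R) hy) (ev H z hz) :=
    fun z hz => smul_lag _ _ hr (ev_smul H z hz)
  have hone : ev H (1 : R) (fun _ _ => smul_one _) = fun _ => 1 := by
    funext c
    induction c using QuotientGroup.induction_on with
    | H τ => rw [ev_mk, smul_one]
  have hder_inv : ∀ σ : G, σ • derivative (prodX (ev H (y : R) hy)) =
      derivative (prodX (ev H (y : R) hy)) := by
    intro σ
    rw [derivative_prodX, ← hone]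
    exact hLinv 1 _ σ
  have hPA_monic : (desc (prodX (ev H (y : R) hy)) hPinv).Monic :=
    desc_monic _ _ (prodX_monic _)
  have hder : derivative (desc (prodX (ev H (y : R) hy)) hPinv) =
      desc (derivative (prodX (ev H (y : R) hy))) hder_inv := derivative_desc _ _ _
  have hg : ((aeval y (derivative (desc (prodX (ev H (y : R) hy)) hPinv)) :
      FixedPoints.subring R H) : R) =
      ∏ d ∈ Finset.univ.erase (QuotientGroup.mk 1 : G ⧸ H), ((y : R) - ev H (y : R) hy d) := by
    rw [hder, coe_aeval_desc, derivative_prodX]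
    have := eval_lag (ev H (y : R) hy) (fun _ => 1) (QuotientGroup.mk 1)
    rw [hrc₀] at this
    rw [this, one_mul]
  refine ⟨aeval y (derivative (desc (prodX (ev H (y : R) hy)) hPinv)), ?_, ?_⟩
  · intro q hq hτ hgq
    rw [hg, Ideal.IsPrime.prod_mem_iff] at hgq
    obtain ⟨d, hd, hdq⟩ := hgq
    induction d using QuotientGroup.induction_on with
    | H τ =>
      rw [ev_mk] at hdq
      have hτH : τ ∉ H := by
        intro hτH
        apply (Finset.mem_erase.mp hd).1
        rw [QuotientGroup.eq]
        simpa using H.inv_mem hτH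
      apply hτ τ hτH
      have := q.neg_mem hdq
      simpa using this
  · set PA := desc (prodX (ev H (y : R) hy)) hPinv with hPA
    set g : FixedPoints.subring R H := aeval y (derivative PA) with hgdef
    let SP : StandardEtalePair (FixedPoints.subring R G) :=
      { f := PA, monic_f := hPA_monic, g := derivative PA, cond := ⟨1, 0, 1, by simp⟩ }
    have hyPA : aeval y PA = 0 := by
      apply Subtype.ext
      rw [hPA, coe_aeval_desc]
      have := eval_prodX (ev H (y : R) hy) (QuotientGroup.mk 1)
      rw [hrc₀] at this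
      rw [this]; rfl
    have hx : SP.HasMap (algebraMap (FixedPoints.subring R H) (Localization.Away g) y) := by
      constructor
      · show aeval _ PA = 0
        rw [Polynomial.aeval_algebraMap_apply, hyPA, map_zero]
      · show IsUnit (aeval _ (derivative PA))
        rw [Polynomial.aeval_algebraMap_apply]
        exact IsLocalization.Away.algebraMap_isUnit g
    have hφ_aeval : ∀ p : (FixedPoints.subring R G)[X],
        SP.lift _ hx (aeval SP.X p) =
          algebraMap (FixedPoints.subring R H) (Localization.Away g) (aeval y p) := by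
      intro p
      rw [← Polynomial.aeval_algHom_apply, SP.lift_X _ hx, Polynomial.aeval_algebraMap_apply]
    have hu : IsUnit (aeval SP.X (derivative PA)) := SP.hasMap_X.2
    have hXPA : aeval SP.X PA = 0 := SP.hasMap_X.1
    suffices Function.Bijective (SP.lift _ hx) from
      Algebra.Etale.of_equiv (AlgEquiv.ofBijective (SP.lift _ hx) this)
    constructor
    · rw [injective_iff_map_eq_zero]
      intro e he
      let Pres : StandardEtalePresentation (FixedPoints.subring R G) SP.Ring :=
        ⟨SP, SP.X, SP.hasMap_X, by simpa [StandardEtalePair.lift_X_left] using Function.bijective_id⟩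
      obtain ⟨p, n, hpn⟩ := Pres.exists_mul_aeval_x_g_pow_eq_aeval_x e
      change e * aeval SP.X (derivative PA) ^ n = aeval SP.X p at hpn
      have h1 : algebraMap (FixedPoints.subring R H) (Localization.Away g) (aeval y p) = 0 := by
        rw [← hφ_aeval, ← hpn, map_mul, he, zero_mul]
      obtain ⟨⟨_, m, rfl⟩, hm⟩ := (IsLocalization.map_eq_zero_iff (Submonoid.powers g) _ _).mp h1
      have hF1 : aeval y (derivative PA ^ m * p) = 0 := by
        rw [map_mul, map_pow]; exact hm
      have hF1R : ∀ c, ((derivative PA ^ m * p).map (FixedPoints.subring R G).subtype).eval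
          (ev H (y : R) hy c) = 0 := by
        intro c
        induction c using QuotientGroup.induction_on with
        | H τ =>
          rw [ev_mk, Polynomial.eval_smul', smul_map_subtype]
          have h2 := congrArg (Subtype.val) hF1
          have h3 : ((aeval y (derivative PA ^ m * p) : FixedPoints.subring R H) : R) =
              ((derivative PA ^ m * p).map (FixedPoints.subring R G).subtype).eval (y : R) := by
            have h1 := Polynomial.aeval_algebraMap_apply (A := FixedPoints.subring R H) (B := R) y
              (derivative PA ^ m * p)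
            have h2 : algebraMap (FixedPoints.subring R H) R (aeval y (derivative PA ^ m * p)) =
              ((aeval y (derivative PA ^ m * p) : FixedPoints.subring R H) : R) := rfl
            rw [← h2, ← h1, Polynomial.aeval_def, Polynomial.eval₂_eq_eval_map]
            rfl
          rw [← h3, h2]
          simp
      have hdvd := prodX_dvd_lag_one_mul (ev H (y : R) hy) _ hF1R
      have hdvdA : PA ∣ derivative PA * (derivative PA ^ m * p) := by
        have e1 : PA.map (FixedPoints.subring R G).subtype = prodX (ev H (y : R) hy) :=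
          map_desc _ _
        have e2 : (derivative PA).map (FixedPoints.subring R G).subtype =
            lag (ev H (y : R) hy) (fun _ => 1) := by
          rw [hder, map_desc, derivative_prodX]
        rw [← Polynomial.map_dvd_map _ (Subring.subtype_injective _) hPA_monic,
          Polynomial.map_mul, e1, e2]
        exact hdvd
      obtain ⟨Q, hQ⟩ := hdvdA
      have h2 : aeval SP.X (derivative PA) * aeval SP.X (derivative PA ^ m * p) = 0 := by
        rw [← map_mul, hQ, map_mul, hXPA, zero_mul]
      have h3 : aeval SP.X (derivative PA ^ m * p) = 0 := hu.mul_right_eq_zero.mp h2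
      rw [map_mul, map_pow] at h3
      have h5 : aeval SP.X p = 0 := (hu.pow m).mul_right_eq_zero.mp h3
      rw [← hpn] at h5
      exact (hu.pow n).mul_left_eq_zero.mp h5
    · intro w
      obtain ⟨⟨s, ⟨_, n, rfl⟩⟩, hw⟩ := IsLocalization.surj (Submonoid.powers g) w
      have hs : ∀ h ∈ H, h • (s : R) = s := fun h hh => s.2 ⟨h, hh⟩
      have hQ : aeval y (desc (lag (ev H (y : R) hy) (ev H (s : R) hs)) (hLinv s hs)) = s * g := by
        apply Subtype.ext
        rw [coe_aeval_desc]
        have := eval_lag (ev H (y : R) hy) (ev H (s : R) hs) (QuotientGroup.mk 1)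
        rw [hrc₀, ev_one] at this
        rw [this, Subring.coe_mul, hg]
      have hv : SP.lift _ hx ↑(hu.unit⁻¹) *
          algebraMap (FixedPoints.subring R H) (Localization.Away g) g = 1 := by
        have hgφ : algebraMap (FixedPoints.subring R H) (Localization.Away g) g =
            SP.lift _ hx (aeval SP.X (derivative PA)) := (hφ_aeval (derivative PA)).symm
        rw [hgφ, ← map_mul, IsUnit.val_inv_mul, map_one]
      refine ⟨aeval SP.X (desc (lag (ev H (y : R) hy) (ev H (s : R) hs)) (hLinv s hs)) *
        ↑(hu.unit⁻¹) ^ (n + 1), ?_⟩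
      rw [map_mul, map_pow, hφ_aeval, hQ, map_mul]
      have hw' : w * algebraMap (FixedPoints.subring R H) (Localization.Away g) g ^ n =
          algebraMap (FixedPoints.subring R H) (Localization.Away g) s := by
        rw [← hw, map_pow]
      have h1 : (algebraMap (FixedPoints.subring R H) (Localization.Away g) g *
          SP.lift _ hx ↑(hu.unit⁻¹)) ^ (n + 1) = 1 := by
        rw [mul_comm, hv, one_pow]
      calc algebraMap (FixedPoints.subring R H) (Localization.Away g) s *
            algebraMap (FixedPoints.subring R H) (Localization.Away g) g *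
            SP.lift _ hx ↑(hu.unit⁻¹) ^ (n + 1)
          = w * (algebraMap (FixedPoints.subring R H) (Localization.Away g) g *
              SP.lift _ hx ↑(hu.unit⁻¹)) ^ (n + 1) := by rw [← hw']; ring
        _ = w := by rw [h1, mul_one]

end Etale

section Avoid

/-- Finitely many ring homomorphisms `f i : S → B` between domains, each different from a fixed
injective one `j`, can be simultaneously separated from `j` by a single element. -/
lemma exists_forall_ne_of_ringHom {S : Type u} {B : Type v} [CommRing S] [IsDomain S] [CommRing B]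
    [IsDomain B] (j : S →+* B) (hj : Function.Injective j) {ι : Type*} [Finite ι]
    (f : ι → S →+* B) (hf : ∀ i, f i ≠ j) : ∃ s : S, ∀ i, f i s ≠ j s := by
  classical
  haveI : Fintype ι := Fintype.ofFinite ι
  rcases finite_or_infinite S with hS | hS
  · -- finite field case: a generator of the unit group
    obtain ⟨u, hu⟩ := IsCyclic.exists_monoid_generator (α := Sˣ)
    refine ⟨(u : S), fun i hi => hf i ?_⟩
    ext s
    by_cases hs : s = 0
    · simp [hs]
    · have hsu : IsUnit s := by
        rw [isUnit_iff_mem_nonZeroDivisors_of_finite]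
        exact mem_nonZeroDivisors_of_ne_zero hs
      obtain ⟨v, rfl⟩ := hsu
      obtain ⟨k, rfl⟩ := hu v
      simp only [Units.val_pow_eq_pow_val, map_pow, hi]
  · by_contra hcon
    push Not at hcon
    have hcover : ⋃ i ∈ (Finset.univ : Finset ι),
        (0 : S) +ᵥ (((f i).eqLocus j).toAddSubgroup : Set S) = Set.univ := by
      rw [Set.eq_univ_iff_forall]
      intro s
      obtain ⟨i, hi⟩ := hcon s
      simp only [Set.mem_iUnion, zero_vadd]
      exact ⟨i, Finset.mem_univ _, hi⟩
    obtain ⟨k, -, hk⟩ := AddSubgroup.exists_finiteIndex_of_leftCoset_cover hcover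
    obtain ⟨x, hx⟩ : ∃ x, f k x ≠ j x := by
      by_contra h
      push Not at h
      exact hf k (RingHom.ext h)
    haveI : Finite (S ⧸ ((f k).eqLocus j).toAddSubgroup) :=
      AddSubgroup.finite_quotient_of_finiteIndex
    obtain ⟨s, s', hne, heq⟩ := Finite.exists_ne_map_eq_of_infinite
      (fun s : S => ((QuotientAddGroup.mk s : S ⧸ ((f k).eqLocus j).toAddSubgroup),
        (QuotientAddGroup.mk (s * x) : S ⧸ ((f k).eqLocus j).toAddSubgroup)))
    rw [Prod.mk.injEq, QuotientAddGroup.eq, QuotientAddGroup.eq] at heq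
    obtain ⟨h1, h2⟩ := heq
    have h1' : f k (-s + s') = j (-s + s') := h1
    have h2' : f k (-(s * x) + s' * x) = j (-(s * x) + s' * x) := h2
    have e : -(s * x) + s' * x = (-s + s') * x := by ring
    rw [e, map_mul, map_mul, h1'] at h2'
    have h3 : j (-s + s') * (f k x - j x) = 0 := by rw [mul_sub, h2', sub_self]
    rcases mul_eq_zero.mp h3 with h4 | h4
    · have := hj (h4.trans (map_zero j).symm)
      apply hne
      have : s' = s := by linear_combination this
      exact this.symm
    · exact hx (sub_eq_zero.mp h4)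

end Avoid


section Dec

/-- The decomposition group of `q`, defined elementwise. -/
def dec (G : Type w) {R : Type u} [Group G] [CommRing R] [MulSemiringAction G R] (q : Ideal R) :
    Subgroup G where
  carrier := {σ | ∀ x, σ • x ∈ q ↔ x ∈ q}
  mul_mem' := by
    intro a b ha hb x
    rw [mul_smul, ha, hb]
  one_mem' := by
    intro x
    rw [one_smul]
  inv_mem' := by
    intro a ha x
    rw [← ha (a⁻¹ • x), smul_inv_smul]

end Dec

section Main

variable {G : Type w} {R : Type u} [Group G] [Finite G] [CommRing R] [MulSemiringAction G R]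
  (q : Ideal R) [q.IsPrime]

/-- An element of `G` acting trivially modulo `q` on the inertia invariants lies in the inertia
group. -/
lemma mem_inertia_of_forall_fixedPoints (τ : G)
    (h : ∀ s : FixedPoints.subring R (q.inertia G), τ • (s : R) - s ∈ q) : τ ∈ q.inertia G := by
  classical
  haveI : Fintype (q.inertia G) := Fintype.ofFinite _
  rw [AddSubgroup.mem_inertia]
  intro x
  show τ • x - x ∈ q
  have hcoeff : ∀ n, τ • (MulSemiringAction.charpoly (q.inertia G) x).coeff n -
      (MulSemiringAction.charpoly (q.inertia G) x).coeff n ∈ q := fun n =>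
    h ⟨(MulSemiringAction.charpoly (q.inertia G) x).coeff n,
      fun σ => MulSemiringAction.smul_coeff_charpoly x n σ⟩
  have hmap : (τ • MulSemiringAction.charpoly (q.inertia G) x).map (Ideal.Quotient.mk q) =
      (MulSemiringAction.charpoly (q.inertia G) x).map (Ideal.Quotient.mk q) := by
    ext n
    rw [coeff_map, coeff_map, coeff_smul, ← sub_eq_zero, ← map_sub,
      Ideal.Quotient.eq_zero_iff_mem]
    exact hcoeff n
  have h1 : (τ • MulSemiringAction.charpoly (q.inertia G) x).eval (τ • x) = 0 := by
    rw [Polynomial.smul_eval_smul, MulSemiringAction.eval_charpoly, smul_zero]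
  have h2 : (MulSemiringAction.charpoly (q.inertia G) x).eval (τ • x) ∈ q := by
    rw [← Ideal.Quotient.eq_zero_iff_mem, ← Polynomial.eval_map_apply, ← hmap,
      Polynomial.eval_map_apply, h1, map_zero]
  rw [MulSemiringAction.charpoly_eq, eval_prod, Ideal.IsPrime.prod_mem_iff] at h2
  obtain ⟨σ, -, hσ⟩ := h2
  rw [eval_sub, eval_X, eval_C] at hσ
  have hσ' : (σ : G) • x - x ∈ q := σ.2 x
  have : τ • x - x = (τ • x - σ • x) + ((σ : G) • x - x) := by
    rw [Subgroup.smul_def]; ring
  rw [this]
  exact q.add_mem hσ hσ'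

lemma inertia_le_dec : q.inertia G ≤ dec G q := by
  intro σ hσ x
  have h1 : σ • x - x ∈ q := hσ x
  constructor
  · intro h
    have := q.sub_mem h h1
    simpa using this
  · intro h
    have := q.add_mem h1 h
    simpa using this

lemma exists_of_not_mem_dec {τ : G} (hτ : τ ∉ dec G q) : ∃ x, τ • x ∈ q ∧ x ∉ q := by
  by_contra hcon
  push Not at hcon
  apply hτ
  intro x
  refine ⟨hcon x, fun hx => ?_⟩
  have hpow : ∀ k : ℕ, ∀ z, τ ^ k • z ∈ q → z ∈ q := by
    intro k
    induction k with
    | zero => intro z hz; simpa using hz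
    | succ k ih =>
      intro z hz
      rw [pow_succ, mul_smul] at hz
      exact hcon _ (ih _ hz)
  have hn : 0 < orderOf τ := orderOf_pos τ
  apply hpow (orderOf τ - 1) (τ • x)
  rw [← mul_smul, ← pow_succ, Nat.sub_add_cancel hn, pow_orderOf_eq_one, one_smul]
  exact hx

lemma exists_dec_element :
    ∃ w : R, w ∉ q ∧ (∀ σ ∈ dec G q, σ • w = w) ∧ (∀ τ, τ ∉ dec G q → τ • w ∈ q) := by
  classical
  haveI : Fintype G := Fintype.ofFinite G
  have hx : ∀ τ : G, ∃ x, x ∉ q ∧ (τ ∉ dec G q → τ • x ∈ q) := by
    intro τ
    by_cases hτ : τ ∈ dec G q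
    · exact ⟨1, (Ideal.ne_top_iff_one q).mp Ideal.IsPrime.ne_top', fun h => absurd hτ h⟩
    · obtain ⟨x, hx1, hx2⟩ := exists_of_not_mem_dec q hτ
      exact ⟨x, hx2, fun _ => hx1⟩
  choose xs hxs1 hxs2 using hx
  have hxq : (∏ τ, xs τ) ∉ q := by
    rw [Ideal.IsPrime.prod_mem_iff]
    push Not
    intro τ _
    exact hxs1 τ
  have hτx : ∀ τ, τ ∉ dec G q → τ • (∏ τ, xs τ) ∈ q := by
    intro τ hτ
    rw [Finset.smul_prod']
    exact (Ideal.IsPrime.prod_mem_iff).mpr ⟨τ, Finset.mem_univ _, hxs2 τ hτ⟩
  haveI : Fintype (dec G q) := Fintype.ofFinite _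
  refine ⟨∏ σ : dec G q, (σ : G) • (∏ τ, xs τ), ?_, ?_, ?_⟩
  · rw [Ideal.IsPrime.prod_mem_iff]
    push Not
    intro σ _ h
    exact hxq ((σ.2 _).mp h)
  · intro ρ hρ
    rw [Finset.smul_prod']
    refine Fintype.prod_equiv (Equiv.mulLeft (⟨ρ, hρ⟩ : dec G q)) _ _ fun σ => ?_
    simp [mul_smul]
  · intro τ hτ
    rw [Finset.smul_prod']
    refine (Ideal.IsPrime.prod_mem_iff).mpr ⟨1, Finset.mem_univ _, ?_⟩
    simpa using hτx τ hτ

lemma exists_primitive_inertia_invariant :
    ∃ y₁ : FixedPoints.subring R (q.inertia G),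
      ∀ τ ∈ dec G q, τ ∉ q.inertia G → τ • (y₁ : R) - y₁ ∉ q := by
  classical
  haveI : (q.comap (FixedPoints.subring R (q.inertia G)).subtype).IsPrime :=
    Ideal.comap_isPrime _ _
  have hj : Function.Injective
      (Ideal.quotientMap q (FixedPoints.subring R (q.inertia G)).subtype le_rfl) :=
    Ideal.quotientMap_injective
  let f : {τ : G // τ ∈ dec G q ∧ τ ∉ q.inertia G} →
      ((FixedPoints.subring R (q.inertia G)) ⧸
        (q.comap (FixedPoints.subring R (q.inertia G)).subtype) →+* R ⧸ q) := fun τ =>
    Ideal.Quotient.lift _ ((Ideal.Quotient.mk q).comp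
      ((MulSemiringAction.toRingHom G R τ.1).comp (FixedPoints.subring R (q.inertia G)).subtype))
      (by
        intro s hs
        rw [RingHom.comp_apply, Ideal.Quotient.eq_zero_iff_mem]
        exact (τ.2.1 _).mpr hs)
  have hf : ∀ τ, f τ ≠
      Ideal.quotientMap q (FixedPoints.subring R (q.inertia G)).subtype le_rfl := by
    intro τ hcon
    apply τ.2.2
    apply mem_inertia_of_forall_fixedPoints q τ.1
    intro s
    have := congrArg (fun φ => φ (Ideal.Quotient.mk _ s)) hcon
    simp only [f, Ideal.Quotient.lift_mk, Ideal.quotientMap_mk] at this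
    exact (Ideal.Quotient.mk_eq_mk_iff_sub_mem _ _).mp this
  obtain ⟨sbar, hsbar⟩ := exists_forall_ne_of_ringHom _ hj f hf
  obtain ⟨y₁, rfl⟩ := Ideal.Quotient.mk_surjective sbar
  refine ⟨y₁, fun τ hτD hτI hmem => ?_⟩
  apply hsbar ⟨τ, hτD, hτI⟩
  simp only [f, Ideal.Quotient.lift_mk, Ideal.quotientMap_mk]
  exact (Ideal.Quotient.mk_eq_mk_iff_sub_mem _ _).mpr hmem

/-- **SGA 1, V, 2.2**: for a finite group `G` acting on `R` and a prime `q` with inertia group
`I`, the ring `R^I` is étale over `R^G` at `q ∩ R^I`. -/
theorem exists_etale_away_inertia :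
    ∃ g : FixedPoints.subring R (q.inertia G),
      g ∉ q.comap (FixedPoints.subring R (q.inertia G)).subtype ∧
      Algebra.Etale (FixedPoints.subring R G) (Localization.Away g) := by
  classical
  obtain ⟨w, hw1, hw2, hw3⟩ := exists_dec_element (G := G) q
  obtain ⟨y₁, hy₁⟩ := exists_primitive_inertia_invariant (G := G) q
  -- modify `y₁` so that it does not lie in `q`
  obtain ⟨y₂, hy₂q, hy₂⟩ : ∃ y₂ : FixedPoints.subring R (q.inertia G), (y₂ : R) ∉ q ∧
      ∀ τ ∈ dec G q, τ ∉ q.inertia G → τ • (y₂ : R) - y₂ ∉ q := by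
    by_cases h : (y₁ : R) ∈ q
    · refine ⟨y₁ + 1, ?_, ?_⟩
      · intro h'
        have : (1 : R) ∈ q := by
          have := q.sub_mem h' h
          simpa using this
        exact (Ideal.ne_top_iff_one q).mp Ideal.IsPrime.ne_top' this
      · intro τ hτD hτI
        have : τ • ((y₁ + 1 : FixedPoints.subring R (q.inertia G)) : R) -
            ((y₁ + 1 : FixedPoints.subring R (q.inertia G)) : R) = τ • (y₁ : R) - y₁ := by
          simp [smul_add]
        rw [this]
        exact hy₁ τ hτD hτI
    · exact ⟨y₁, h, hy₁⟩
  let wS : FixedPoints.subring R (q.inertia G) :=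
    ⟨w, fun σ => hw2 σ (inertia_le_dec q σ.2)⟩
  obtain ⟨g, hg, het⟩ := etale_away_of_fixedPoints (G := G) (q.inertia G) (wS * y₂)
  refine ⟨g, ?_, het⟩
  rw [Ideal.mem_comap]
  refine hg q inferInstance fun τ hτI => ?_
  show τ • (w * (y₂ : R)) - w * (y₂ : R) ∉ q
  by_cases hτD : τ ∈ dec G q
  · rw [smul_mul', hw2 τ hτD, ← mul_sub]
    intro h
    rcases Ideal.IsPrime.mem_or_mem inferInstance h with h | h
    · exact hw1 h
    · exact hy₂ τ hτD hτI h
  · intro h
    have h1 : τ • (w * (y₂ : R)) ∈ q := by
      rw [smul_mul']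
      exact q.mul_mem_right _ (hw3 τ hτD)
    have h2 : w * (y₂ : R) ∈ q := by
      have := q.sub_mem h1 h
      simpa using this
    rcases Ideal.IsPrime.mem_or_mem inferInstance h2 with h | h
    · exact hw1 h
    · exact hy₂q h

end Main

end Groth.Agent.Lib.Helper29.InertiaGen
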