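import Mathlib
import Groth.Agent.Lib.Helper29.Inertia.EtaleGen
import Groth.Agent.Lib.Helper29.Inertia.Descent

/-!
# Invariants of a subgroup containing the inertia group are étale over the invariants (helper29)

`isEtaleAt_fixedPoints_of_inertia_le`: for a finite group `H` acting on `A` (finite over the
Noetherian ring `A^H`), a subgroup `H'` and a prime `P` of `A` whose inertia group is contained in
`H'`, the ring `A^{H'}` is étale over `A^H` at `P ∩ A^{H'}`.
-/

set_option autoImplicit false
set_option linter.style.haveILetI false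
set_option linter.unusedSectionVars false
universe v w

namespace Groth.Agent.Lib.Helper29.InertiaGen

open Pointwise

variable {A : Type v} [CommRing A] {H : Type w} [Group H] [Finite H] [MulSemiringAction H A]

/-- From "étale after inverting `g ∉ 𝔓`" to "étale at `𝔓`". -/
theorem isEtaleAt_of_etale_away {R S : Type*} [CommRing R] [CommRing S] [Algebra R S] (g : S)
    (𝔓 : Ideal S) [𝔓.IsPrime] (hg : g ∉ 𝔓) [Algebra.Etale R (Localization.Away g)] :
    Algebra.IsEtaleAt R 𝔓 := by
  have h := (Algebra.basicOpen_subset_etaleLocus_iff (R := R) (f := g)).mpr inferInstance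
  exact h (show (⟨𝔓, inferInstance⟩ : PrimeSpectrum S) ∈ PrimeSpectrum.basicOpen g from hg)

theorem isEtaleAt_fixedPoints_inertia (P : Ideal A) [P.IsPrime] :
    Algebra.IsEtaleAt (FixedPoints.subring A H)
      (P.comap (FixedPoints.subring A (P.inertia H)).subtype) := by
  obtain ⟨g, hg, het⟩ := exists_etale_away_inertia (G := H) P
  exact isEtaleAt_of_etale_away g _ hg

theorem isEtaleAt_fixedPoints_of_inertia_le [IsNoetherianRing (FixedPoints.subring A H)]
    [Module.Finite (FixedPoints.subring A H) A] (H' : Subgroup H) (P : Ideal A) [P.IsPrime]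
    (hI : P.inertia H ≤ H') :
    Algebra.IsEtaleAt (FixedPoints.subring A H) (P.comap (FixedPoints.subring A H').subtype) := by
  let R₀ := FixedPoints.subring A H
  let B := FixedPoints.subring A H'
  let S₁ := FixedPoints.subring A (P.inertia H)
  let S₂ := FixedPoints.subring A (P.inertia H')
  have h1 : Algebra.IsEtaleAt R₀ (P.comap S₁.subtype) := isEtaleAt_fixedPoints_inertia (H := H) P
  have h2 : Algebra.IsEtaleAt B (P.comap S₂.subtype) := isEtaleAt_fixedPoints_inertia (H := H') P
  have hS : S₁ = S₂ := by
    ext a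
    constructor
    · intro ha σ
      exact ha ⟨((σ : H') : H), σ.2⟩
    · intro ha σ
      exact ha ⟨⟨(σ : H), hI σ.2⟩, σ.2⟩
  have hle : B ≤ S₁ := fun a ha σ => ha ⟨(σ : H), hI σ.2⟩
  letI iBS : Algebra B S₁ := (Subring.inclusion hle).toAlgebra
  have h2' : Algebra.IsEtaleAt B (P.comap S₁.subtype) :=
    isEtaleAt_subring_congr S₁ S₂ hS iBS inferInstance (fun b => rfl) P h2
  haveI : IsScalarTower R₀ B S₁ := IsScalarTower.of_algebraMap_eq (fun x => rfl)
  haveI : IsScalarTower R₀ B A := IsScalarTower.of_algebraMap_eq (fun x => rfl)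
  haveI : IsScalarTower R₀ S₁ A := IsScalarTower.of_algebraMap_eq (fun x => rfl)
  haveI hNA : IsNoetherian R₀ A := isNoetherian_of_isNoetherianRing_of_finite R₀ A
  haveI : Module.Finite R₀ B :=
    Module.Finite.of_injective (IsScalarTower.toAlgHom R₀ B A).toLinearMap Subtype.val_injective
  haveI : Module.Finite R₀ S₁ :=
    Module.Finite.of_injective (IsScalarTower.toAlgHom R₀ S₁ A).toLinearMap Subtype.val_injective
  haveI : Algebra.FinitePresentation R₀ B :=
    Algebra.FinitePresentation.of_finiteType.mp inferInstance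
  haveI : Algebra.FinitePresentation R₀ S₁ :=
    Algebra.FinitePresentation.of_finiteType.mp inferInstance
  haveI : IsNoetherianRing B := Algebra.FiniteType.isNoetherianRing R₀ B
  haveI : Module.Finite B S₁ := Module.Finite.of_restrictScalars_finite R₀ B S₁
  haveI : Algebra.FinitePresentation B S₁ :=
    Algebra.FinitePresentation.of_finiteType.mp inferInstance
  haveI : (P.comap S₁.subtype).LiesOver (P.comap B.subtype) := ⟨rfl⟩
  exact isEtaleAt_of_isEtaleAt_of_isEtaleAt R₀ B S₁ (P.comap B.subtype) (P.comap S₁.subtype)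

end Groth.Agent.Lib.Helper29.InertiaGen
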