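import Mathlib
import Groth.Agent.Lib.Helper29.Inertia.FixedEtale
import Groth.Agent.Lib.Helper29.Purity.CodimOne

/-!
# The Galois group of a totally ramified normal cover of a regular local ring is generated by the
inertia groups of height-one primes (helper29)

`iSup_inertia_eq_top`: let `A` be a normal local domain with a faithful action of a finite group `H`
such that `A^H` is a regular local ring over which `A` is finite, with the same residue field.
Then `H` is generated by the inertia groups of the height-one primes of `A`.

Proof: let `H'` be the subgroup generated by these inertia groups.  `A^{H'}` is étale over `A^H` in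
codimension `≤ 1` (`isEtaleAt_fixedPoints_of_inertia_le`), hence étale by Zariski–Nagata purity
(`purity_codim_one`); being local with trivial residue field extension, `A^{H'} = A^H`, whence
`H' = H` by Galois theory (`IsGaloisGroup.card_eq_finrank'`).

`isUnit_fixed_iff`, `isLocalRing_fixed`, `mem_maximalIdeal_fixed_iff` are copied from helper99's
`Lib/Helper99/WildFixed.lean`, and `fixedPoints_ic` from helper99's `S15798.lean`, to avoid their
heavy import closures.
-/

set_option autoImplicit false
set_option linter.style.haveILetI false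
set_option linter.unusedSectionVars false
universe u v w

namespace Groth.Agent.Lib.Helper29.InertiaGen

open IsLocalRing

section FixedBasics

variable (A : Type v) [CommRing A] (G : Type w) [Group G] [MulSemiringAction G A]

theorem isUnit_fixed_iff (b : FixedPoints.subring A G) : IsUnit b ↔ IsUnit (b : A) := by
  constructor
  · intro h
    exact h.map (FixedPoints.subring A G).subtype
  · intro h
    obtain ⟨a, ha⟩ := h.exists_right_inv
    have hinv : ∀ σ : G, σ • a = a := by
      intro σ
      have hb : σ • (b : A) = b := b.2 σ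
      calc σ • a = σ • a * ((b : A) * a) := by rw [ha, mul_one]
        _ = σ • a * (σ • (b : A)) * a := by rw [hb]; ring
        _ = σ • (a * (b : A)) * a := by rw [smul_mul']
        _ = a := by rw [mul_comm a, ha, smul_one, one_mul]
    refine IsUnit.of_mul_eq_one (⟨a, hinv⟩ : FixedPoints.subring A G) ?_
    exact Subtype.ext ha

theorem isLocalRing_fixed [IsLocalRing A] : IsLocalRing (FixedPoints.subring A G) := by
  apply IsLocalRing.of_nonunits_add
  intro a b ha hb
  rw [mem_nonunits_iff, isUnit_fixed_iff] at ha hb ⊢
  exact IsLocalRing.nonunits_add ha hb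

theorem mem_maximalIdeal_fixed_iff [IsLocalRing A] [IsLocalRing (FixedPoints.subring A G)]
    (b : FixedPoints.subring A G) :
    b ∈ IsLocalRing.maximalIdeal (FixedPoints.subring A G) ↔
      (b : A) ∈ IsLocalRing.maximalIdeal A := by
  rw [IsLocalRing.mem_maximalIdeal, IsLocalRing.mem_maximalIdeal, mem_nonunits_iff,
    mem_nonunits_iff, isUnit_fixed_iff]

/-- the ring of invariants of a group acting on an integrally closed domain is integrally closed -/
theorem fixedPoints_ic [IsDomain A] [IsIntegrallyClosed A] :
    IsIntegrallyClosed (FixedPoints.subring A G) := by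
  obtain ⟨S, hS⟩ : ∃ S : Subring A, S = FixedPoints.subring A G := ⟨_, rfl⟩
  rw [← hS]
  have hmem : ∀ x : A, x ∈ S ↔ ∀ σ : G, σ • x = x := by
    intro x
    rw [hS]
    exact Iff.rfl
  rw [isIntegrallyClosed_iff (FractionRing S)]
  intro x hx
  have hinj : Function.Injective ((algebraMap A (FractionRing A)).comp S.subtype) :=
    (IsFractionRing.injective A (FractionRing A)).comp Subtype.val_injective
  have hj : ∀ s : S, IsFractionRing.lift hinj (algebraMap S (FractionRing S) s) =
      algebraMap A (FractionRing A) (s : A) :=
    fun s => IsFractionRing.lift_algebraMap hinj s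
  have hint : IsIntegral A (IsFractionRing.lift hinj x) :=
    IsIntegral.map_of_comp_eq S.subtype (IsFractionRing.lift hinj)
      (by ext s; exact (hj s).symm) hx
  obtain ⟨t, ht⟩ := (isIntegrallyClosed_iff (FractionRing A)).mp inferInstance hint
  obtain ⟨s₁, s₂, hs₂, rfl⟩ := IsFractionRing.div_surjective (A := S) x
  have hs₂0 : s₂ ≠ 0 := nonZeroDivisors.ne_zero hs₂
  have hs₂A : (s₂ : A) ≠ 0 := fun h => hs₂0 (Subtype.ext h)
  rw [map_div₀, hj, hj] at ht
  have hne : algebraMap A (FractionRing A) (s₂ : A) ≠ 0 := by
    intro h
    exact hs₂A ((map_eq_zero_iff _ (IsFractionRing.injective A (FractionRing A))).mp h)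
  have h1 : t * (s₂ : A) = s₁ := by
    apply IsFractionRing.injective A (FractionRing A)
    rw [map_mul, ht, div_mul_cancel₀ _ hne]
  have h3 : ∀ σ : G, σ • t = t := by
    intro σ
    apply mul_right_cancel₀ hs₂A
    have h2 : σ • (t * (s₂ : A)) = σ • (s₁ : A) := congrArg (fun z => σ • z) h1
    rw [smul_mul', (hmem _).mp s₂.2 σ, (hmem _).mp s₁.2 σ] at h2
    rw [h2, h1]
  refine ⟨⟨t, (hmem t).mpr h3⟩, ?_⟩
  have hne' : algebraMap S (FractionRing S) s₂ ≠ 0 := by
    intro h
    exact hs₂0 ((map_eq_zero_iff _ (IsFractionRing.injective S (FractionRing S))).mp h)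
  rw [eq_div_iff hne', ← map_mul]
  congr 1
  exact Subtype.ext h1

end FixedBasics

section Nakayama

/-- a finite unramified local algebra over a local ring with trivial residue field extension is a
quotient. -/
theorem surjective_algebraMap_of_unramified_of_residue {R B : Type*} [CommRing R] [CommRing B]
    [IsLocalRing R] [IsLocalRing B] [Algebra R B] [IsLocalHom (algebraMap R B)]
    [Module.Finite R B] [Algebra.FormallyUnramified R B]
    (hres : ∀ b : B, ∃ r : R, b - algebraMap R B r ∈ maximalIdeal B) :
    Function.Surjective (algebraMap R B) := by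
  have h𝔪 : (maximalIdeal R).map (algebraMap R B) = maximalIdeal B :=
    Algebra.FormallyUnramified.map_maximalIdeal
  let N : Submodule R B := LinearMap.range (Algebra.linearMap R B)
  have htop : (⊤ : Submodule R B) ≤ N := by
    apply Submodule.le_of_le_smul_of_le_jacobson_bot (I := maximalIdeal R) Module.Finite.fg_top
      (IsLocalRing.maximalIdeal_le_jacobson _)
    intro b _
    obtain ⟨r, hr⟩ := hres b
    have h1 : b = algebraMap R B r + (b - algebraMap R B r) := by ring
    rw [h1]
    refine Submodule.add_mem_sup ⟨r, rfl⟩ ?_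
    rw [Ideal.smul_top_eq_map, Submodule.restrictScalars_mem, h𝔪]
    exact hr
  intro b
  obtain ⟨r, hr⟩ := htop (Submodule.mem_top : b ∈ ⊤)
  exact ⟨r, hr⟩

end Nakayama

section Main

variable {A : Type v} [CommRing A] [IsDomain A] [IsIntegrallyClosed A] [IsLocalRing A]
  {H : Type w} [Group H] [Finite H] [MulSemiringAction H A] [FaithfulSMul H A]

theorem isGaloisGroup_fixedPoints : IsGaloisGroup H (FixedPoints.subring A H) A where
  faithful := inferInstance
  commutes := ⟨fun σ r a => by
    change σ • ((r : A) * a) = (r : A) * σ • a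
    rw [smul_mul', r.2 σ]⟩
  isInvariant := ⟨fun a ha => ⟨⟨a, ha⟩, rfl⟩⟩

theorem iSup_inertia_eq_top [IsRegularLocalRing (FixedPoints.subring A H)]
    [Module.Finite (FixedPoints.subring A H) A]
    (hres : ∀ a : A, ∃ r : FixedPoints.subring A H, a - (r : A) ∈ maximalIdeal A) :
    (⨆ P : {P : Ideal A // P.IsPrime ∧ P.height = 1}, P.1.inertia H) = ⊤ := by
  classical
  obtain ⟨H', hH'⟩ : ∃ H' : Subgroup H,
      H' = ⨆ P : {P : Ideal A // P.IsPrime ∧ P.height = 1}, P.1.inertia H := ⟨_, rfl⟩
  rw [← hH']
  let R₀ := FixedPoints.subring A H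
  let B := FixedPoints.subring A H'
  haveI : IsScalarTower R₀ B A := IsScalarTower.of_algebraMap_eq (fun x => rfl)
  haveI hNA : IsNoetherian R₀ A := isNoetherian_of_isNoetherianRing_of_finite R₀ A
  haveI : Module.Finite R₀ B :=
    Module.Finite.of_injective (IsScalarTower.toAlgHom R₀ B A).toLinearMap Subtype.val_injective
  haveI : IsIntegrallyClosed B := fixedPoints_ic A H'
  have hinjB : Function.Injective (algebraMap R₀ B) :=
    fun x y h => Subtype.ext (congrArg (fun z : B => (z : A)) h)
  haveI : Algebra.IsIntegral R₀ A := inferInstance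
  haveI : Algebra.IsIntegral B A := Algebra.IsIntegral.tower_top R₀
  -- étale in codimension `≤ 1`
  have hcodim : ∀ (Q : Ideal B) [Q.IsPrime], Q.height ≤ 1 → Algebra.IsEtaleAt R₀ Q := by
    intro Q _ hQ
    obtain ⟨P, hPprime, hPQ⟩ := Ideal.exists_ideal_over_prime_of_isIntegral_of_isDomain (S := A) Q
      (by
        rw [(RingHom.injective_iff_ker_eq_bot _).mp
          (show Function.Injective (algebraMap B A) from Subtype.val_injective)]
        exact bot_le)
    haveI := hPprime
    have hht : P.height ≤ 1 :=
      le_trans (Groth.Agent.Lib.Helper29.height_le_height_comap_of_isIntegral (algebraMap B A)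
        (fun x => Algebra.IsIntegral.isIntegral x) P) (by rw [hPQ]; exact hQ)
    have hI : P.inertia H ≤ H' := by
      by_cases h0 : P.height = 0
      · have hbot : P = ⊥ := by
          have h1 := Ideal.height_eq_zero_iff.mp h0
          rw [IsDomain.minimalPrimes_eq_singleton_bot] at h1
          exact h1
        intro σ hσ
        have h1 : σ = 1 := by
          apply FaithfulSMul.eq_of_smul_eq_smul (α := A)
          intro a
          have h2 : σ • a - a ∈ P := hσ a
          rw [hbot, Ideal.mem_bot, sub_eq_zero] at h2
          rw [h2, one_smul]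
        rw [h1]
        exact one_mem _
      · have h1 : P.height = 1 := le_antisymm hht (Order.one_le_iff_ne_zero.mpr h0)
        rw [hH']
        exact le_iSup (fun P : {P : Ideal A // P.IsPrime ∧ P.height = 1} => P.1.inertia H)
          ⟨P, hPprime, h1⟩
    have key := isEtaleAt_fixedPoints_of_inertia_le H' P hI
    subst hPQ
    exact key
  haveI hEt : Algebra.Etale R₀ B := Groth.Agent.Lib.Helper29.Purity.purity_codim_one hinjB hcodim
  -- `B` is local with trivial residue field extension
  haveI : IsLocalRing B := isLocalRing_fixed A H'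
  haveI : IsLocalHom (algebraMap R₀ B) := ⟨fun r hr => by
    rw [isUnit_fixed_iff] at hr ⊢
    exact hr⟩
  have hresB : ∀ b : B, ∃ r : R₀, b - algebraMap R₀ B r ∈ maximalIdeal B := by
    intro b
    obtain ⟨r, hr⟩ := hres (b : A)
    exact ⟨r, (mem_maximalIdeal_fixed_iff A H' _).mpr hr⟩
  have hsurj : Function.Surjective (algebraMap R₀ B) :=
    surjective_algebraMap_of_unramified_of_residue hresB
  -- Galois theory
  haveI hG1 : IsGaloisGroup H R₀ A := isGaloisGroup_fixedPoints
  haveI hG2 : IsGaloisGroup H' R₀ A :=
    { faithful := ⟨fun {σ τ} h => Subtype.ext (FaithfulSMul.eq_of_smul_eq_smul (α := A) h)⟩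
      commutes := ⟨fun σ r a => by
        change (σ : H) • ((r : A) * a) = (r : A) * (σ : H) • a
        rw [smul_mul', r.2 (σ : H)]⟩
      isInvariant := ⟨fun a ha => by
        obtain ⟨r, hr⟩ := hsurj ⟨a, ha⟩
        exact ⟨r, congrArg (fun z : B => (z : A)) hr⟩⟩ }
  haveI : FaithfulSMul R₀ A :=
    (faithfulSMul_iff_algebraMap_injective R₀ A).mpr Subtype.val_injective
  have hc1 := IsGaloisGroup.card_eq_finrank' H R₀ A
  have hc2 := IsGaloisGroup.card_eq_finrank' H' R₀ A
  exact Subgroup.eq_top_of_card_eq H' (hc2.trans hc1.symm)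

end Main

end Groth.Agent.Lib.Helper29.InertiaGen
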